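import Mathlib
import Cfsg.Prelude.Def_OddOrderLocal
import Cfsg.Prelude.Def_PLocal
import Cfsg.Prelude.Def_CaseTheorems

/-!
# Blackburn's classification of the odd `p`-groups of `p`-rank at most two (S3888): definitions

`PCentral p C`: every element of order dividing `p` is central.
`Fam2 p n G`, `Fam3 p n G`: the second and third alternatives of S3888, verbatim.
`TransvAct E x`: `x` acts on `E` as a transvection.
`PropK`, `PropK2`, `PropAG`, `PropH1`, `PropH2`, `PropR`: the universally quantified statements of the pieces (K), (K2), (AG),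
(H1), (H2), (R) of the swarm, so that the pieces using them can take them as hypotheses.
-/

set_option autoImplicit false

universe u

namespace Cfsg.Agent.Helper77.Blk

/-- every element of order dividing `p` is central -/
def PCentral (p : ℕ) (C : Type*) [Group C] : Prop :=
  ∀ c : C, c ^ p = 1 → c ∈ Subgroup.center C

/-- second alternative of S3888: central product of the extraspecial group of order `p^3` and exponent `p`
with a cyclic group -/
def Fam2 (p n : ℕ) (G : Type*) [Group G] : Prop :=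
  3 ≤ n ∧ ∃ x y z : G, Subgroup.closure ({x, y, z} : Set G) = ⊤ ∧ x ^ p = 1 ∧ y ^ p = 1 ∧ z ^ p ^ (n - 2) = 1 ∧
        x * z = z * x ∧ y * z = z * y ∧ x⁻¹ * y * x = y * z ^ p ^ (n - 3)

/-- third alternative of S3888 -/
def Fam3 (p n : ℕ) (G : Type*) [Group G] : Prop :=
  4 ≤ n ∧ ∃ (s : ℕ) (x y z : G), (s = 1 ∨ ¬ IsSquare (s : ZMod p)) ∧ Subgroup.closure ({x, y, z} : Set G) = ⊤ ∧
        x ^ p = 1 ∧ y ^ p = 1 ∧ z ^ p ^ (n - 2) = 1 ∧ y * z = z * y ∧ x⁻¹ * y * x = y * z ^ (s * p ^ (n - 3)) ∧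
        x⁻¹ * z * x = y * z

/-- `x` acts on `E` like a transvection: for every `e2 ∈ E` not fixed by `x`, the element `e1 = e2⁻¹ * (x⁻¹ * e2 * x)` is fixed by `x`,
every fixed element of `E` is a power of `e1`, and every commutator `e⁻¹ * (x⁻¹ * e * x)`, `e ∈ E`, is a power of `e1`. -/
def TransvAct {G : Type*} [Group G] (E : Subgroup G) (x : G) : Prop :=
  ∀ e2 ∈ E, x⁻¹ * e2 * x ≠ e2 →
    x⁻¹ * (e2⁻¹ * (x⁻¹ * e2 * x)) * x = e2⁻¹ * (x⁻¹ * e2 * x) ∧
    (∀ e ∈ E, x⁻¹ * e * x = e → e ∈ Subgroup.zpowers (e2⁻¹ * (x⁻¹ * e2 * x))) ∧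
    (∀ e ∈ E, e⁻¹ * (x⁻¹ * e * x) ∈ Subgroup.zpowers (e2⁻¹ * (x⁻¹ * e2 * x)))

/-- statement of piece (K) -/
def PropK (p : ℕ) : Prop :=
  ∀ (C : Type u) [Group C] [Finite C], IsPGroup p C → PCentral p C → ∀ u g : C,
    (u ^ p) ^ p = 1 → (u⁻¹ * g⁻¹ * u * g) ^ p = 1

/-- statement of piece (K2) -/
def PropK2 (p : ℕ) : Prop :=
  ∀ (C : Type u) [Group C] [Finite C], IsPGroup p C → PCentral p C → ∀ u v : C,
    (u ^ p) ^ p = 1 → (v ^ p) ^ p = 1 → (u * v) ^ p = u ^ p * v ^ p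

/-- statement of piece (AG) -/
def PropAG (p : ℕ) : Prop :=
  ∀ (C : Type u) [Group C] [Finite C], IsPGroup p C → PCentral p C → ∀ E : Subgroup C,
    (∀ c : C, c ^ p = 1 → c ∈ E) → (Cfsg.powerClosure p 1 (⊤ : Subgroup C)).index ≤ Nat.card E

/-- statement of piece (H1) -/
def PropH1 (p : ℕ) : Prop :=
  ∀ (P : Type u) [Group P] [Finite P], IsPGroup p P → ∀ n : P, n ^ p = 1 → (∀ g : P, g * n = n * g) →
    (∀ a b : P, a * b * a⁻¹ * b⁻¹ ∈ Subgroup.zpowers n) →
    (Cfsg.powerClosure p 1 (⊤ : Subgroup P)).index ≤ p ^ 2 → Cfsg.IsMetacyclic P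

/-- statement of piece (H2) -/
def PropH2 (p : ℕ) : Prop :=
  ∀ (P : Type u) [Group P] [Finite P], IsPGroup p P →
    (Cfsg.powerClosure p 1 (⊤ : Subgroup P)).index ≤ p ^ 2 → Cfsg.IsMetacyclic P

/-- statement of piece (R) -/
def PropR (p : ℕ) : Prop :=
  ∀ (P : Type u) [Group P] [Finite P], IsPGroup p P → Cfsg.IsMetacyclic P → Cfsg.IsRegularPGroup p P

end Cfsg.Agent.Helper77.Blk
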