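import Mathlib
import Cfsg.Agent.Helper30.BlkCHAIN
import Cfsg.Agent.Helper10.BlkNU
import Cfsg.Agent.Helper33.BlkREC
import Cfsg.Agent.Helper59.BlkNT
import Cfsg.Agent.Helper37.BlkK
import Cfsg.Agent.Helper30.BlkK2
import Cfsg.Agent.Helper90.BlkAG
import Cfsg.Agent.Helper63.BlkH1
import Cfsg.Agent.Helper75.BlkH2
import Cfsg.Agent.Helper70.BlkR
import Cfsg.Agent.Helper89.BlkRK
import Cfsg.Agent.Helper79.BlkIDX
import Cfsg.Agent.Helper73.BlkACT
import Cfsg.Agent.Helper68.BlkMC
import Cfsg.Agent.Helper53.BlkBI1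
import Cfsg.Agent.Helper10.BlkBI2
import Cfsg.Agent.Helper89.BlkBII
import Cfsg.Agent.Helper48.BlkC0
import Cfsg.Agent.Helper50.BlkC1
import Cfsg.Agent.Helper62.BlkC2
import Cfsg.Agent.Helper78.BlkC3
import Cfsg.Agent.Helper79.BlkAL1
import Cfsg.Agent.Helper70.BlkAL2
import Cfsg.Agent.Helper87.BlkAL3
import Cfsg.Agent.Helper68.BlkMCA
import Cfsg.Agent.Helper77.Blk.Defs
import Cfsg.Agent.S0126
import Cfsg.Agent.S0639

set_option autoImplicit false

universe u

namespace Cfsg.Agent.Helper77.Blk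

open Subgroup

/-- from class `n - 1` to the fourth alternative -/
theorem alt4_of_class {G : Type u} [Group G] [Finite G] {p : ℕ} [hp : Fact p.Prime] (n : ℕ)
    (hG : Nat.card G = p ^ n) (hn : 2 ≤ n) (h3 : p = 3) (hcl : Group.nilpotencyClass G = n - 1) :
    p = 3 ∧ 2 ≤ n ∧ (⊤ : Subgroup G).lowerCentralSeries (n - 2) ≠ ⊥ := by
  refine ⟨h3, hn, fun hbot => ?_⟩
  have : Group.IsNilpotent G := (IsPGroup.of_card hG).isNilpotent
  have := (Subgroup.lowerCentralSeries_eq_bot_iff_nilpotencyClass_le (G := G) (n := n - 2)).1 hbot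
  omega

theorem assembly {G : Type u} [Group G] [Finite G] {p : ℕ} [hp : Fact p.Prime] (hp2 : p ≠ 2) (n : ℕ)
    (hG : Nat.card G = p ^ n) (hrk : Cfsg.PRankLE p 2 G) :
    Cfsg.IsMetacyclic G ∨ Fam2 p n G ∨ Fam3 p n G ∨
      (p = 3 ∧ 2 ≤ n ∧ (⊤ : Subgroup G).lowerCentralSeries (n - 2) ≠ ⊥) := by
  have hPG : IsPGroup p G := IsPGroup.of_card hG
  have hK : PropK.{u} p := Cfsg.Agent.Helper37.Blk.lemmaK hp2
  have hK2 : PropK2.{u} p := Cfsg.Agent.Helper30.Blk.propK2 hp2 hK
  have hAG : PropAG.{u} p := Cfsg.Agent.Helper90.Blk.propAG hp2 hK hK2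
  have hH2 : PropH2.{u} p := Cfsg.Agent.Helper75.Blk.propH2 hp2 (Cfsg.Agent.Helper63.Blk.propH1 hp2)
  have hR : PropR.{u} p := Cfsg.Agent.Helper70.Blk.propR hp2
  by_cases hcyc : IsCyclic G
  · left
    refine ⟨⊤, inferInstance, ?_, ?_⟩
    · exact (Subgroup.topEquiv (G := G)).isCyclic.mpr hcyc
    · have : Subsingleton (G ⧸ (⊤ : Subgroup G)) := QuotientGroup.subsingleton_quotient_top
      infer_instance
  obtain ⟨E, hEn, ⟨hEcomm, hEexp⟩, hEcard⟩ := Cfsg.Agent.S0126.result hp2 hPG hcyc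
  have := hEn
  have hCE : ∀ c ∈ centralizer (E : Set G), c ^ p = 1 → c ∈ E :=
    fun c hc hcp => Cfsg.Agent.Helper89.Blk.mem_of_rank hrk E hEcard hEexp c hc hcp
  have hIDX := Cfsg.Agent.Helper79.Blk.index_centralizer_dvd hPG E hEcard
  have hECle : E ≤ centralizer (E : Set G) := by
    intro e he
    rw [mem_centralizer_iff]
    intro f hf
    have := hEcomm.is_comm.comm (⟨f, hf⟩ : E) ⟨e, he⟩
    exact congrArg Subtype.val this
  have hn2 : 2 ≤ n := by
    have hdvd : Nat.card E ∣ Nat.card G := Subgroup.card_subgroup_dvd_card E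
    rw [hEcard, hG] at hdvd
    exact (Nat.pow_dvd_pow_iff_le_right hp.out.one_lt).1 hdvd
  have hCnormal : (centralizer (E : Set G)).Normal := inferInstance
  have hconjC : ∀ (x c : G), c ∈ centralizer (E : Set G) → x⁻¹ * c * x ∈ centralizer (E : Set G) := by
    intro x c hc
    have := hCnormal.conj_mem c hc x⁻¹
    rwa [inv_inv] at this
  by_cases hβ : ∃ x : G, x ∉ centralizer (E : Set G) ∧ x ^ p = 1
  · -- case beta
    obtain ⟨x, hxC, hxp⟩ := hβ
    have hACT : TransvAct E x := Cfsg.Agent.Helper73.Blk.transvAct hPG E hEcard hEexp x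
    -- some element of E is moved by x
    have hmoved : ∃ e ∈ E, x⁻¹ * e * x ≠ e := by
      by_contra hcon
      push Not at hcon
      apply hxC
      rw [mem_centralizer_iff]
      intro e he
      have h1 := hcon e he
      calc e * x = x * (x⁻¹ * e * x) := by group
        _ = x * e := by rw [h1]
    by_cases hI : ∃ u2 ∈ centralizer (E : Set G), u2 ^ p ∈ E ∧ x⁻¹ * u2 ^ p * x ≠ u2 ^ p
    · -- Case I
      obtain ⟨u2, hu2, hu2p, hne⟩ := hI
      obtain ⟨e1, u1, f, g, he1, he1n, he1x, hu1, hu1p, hf, hu1x, hg, hfx, hrel, hfix, hcomm⟩ :=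
        Cfsg.Agent.Helper53.Blk.beta_caseI_chain hp2 hPG E hEcard hEexp hCE hK2 (fun x u2 u1 f g => Cfsg.Agent.Helper30.Blk.chain_conj x u2 u1 f g)
          x hxp hACT u2 hu2 hu2p hne
      obtain ⟨h3, hcent⟩ := Cfsg.Agent.Helper10.Blk.beta_caseI_concl hp2 hPG E hEcard hEexp hCE hK2 x hxC e1 u1 f g he1 he1n
        he1x hfix hcomm hu1 hu1p hf hu1x hg hfx hrel
      have hcl := Cfsg.Agent.Helper68.Blk.maxclass_of_outside n hG E hEcard hEexp x hxC (by rw [hxp]; exact one_mem E) hcent
      exact Or.inr (Or.inr (Or.inr (alt4_of_class n hG hn2 h3 hcl)))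
    · -- Case II
      push Not at hI
      obtain ⟨m, z, y, hm, hzy, hz, hy, hyz, hCeq, hCcard⟩ :=
        Cfsg.Agent.Helper89.Blk.beta_caseII_struct hp2 hPG E hEcard hEexp hCE hK2 x hxC hACT hI
      -- index of C is p, so n = m + 2
      have hidx : (centralizer (E : Set G)).index = p := by
        rcases (Nat.dvd_prime hp.out).1 hIDX with h | h
        · exact absurd (Subgroup.index_eq_one.1 h ▸ mem_top x) hxC
        · exact h
      have hn : n = m + 2 := by
        have h1 := Subgroup.card_mul_index (centralizer (E : Set G))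
        rw [hCcard, hidx, hG, ← pow_succ] at h1
        exact (Nat.pow_right_injective hp.out.two_le h1).symm
      have hxC' : x ∉ closure ({z, y} : Set G) := by rw [← hCeq]; exact hxC
      have hzC : z ∈ centralizer (E : Set G) := by
        rw [hCeq]; exact subset_closure (by simp)
      have hyC : y ∈ centralizer (E : Set G) := by
        rw [hCeq]; exact subset_closure (by simp)
      have hnz : x⁻¹ * z * x ∈ closure ({z, y} : Set G) := by rw [← hCeq]; exact hconjC x z hzC
      have hny : x⁻¹ * y * x ∈ closure ({z, y} : Set G) := by rw [← hCeq]; exact hconjC x y hyC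
      obtain ⟨e, heE, hemoved⟩ := hmoved
      have heC : e ∈ closure ({z, y} : Set G) := by rw [← hCeq]; exact hECle heE
      rcases Nat.lt_or_ge m 2 with hm1 | hm2
      · have hm1' : m = 1 := by omega
        subst hm1'
        have hG3 : Nat.card G = p ^ 3 := by rw [hG, hn]
        have := Cfsg.Agent.Helper48.Blk.class_m_one hp2 hG3 x z y hzy hz hy hyz hxp hxC' hnz hny ⟨e, heC, hemoved⟩
        rw [hn]
        exact Or.inr (Or.inl this)
      · obtain ⟨α, β, γ, hzx, hyx, hα, hγ, hz0⟩ := Cfsg.Agent.Helper50.Blk.class_normal_form hp2 hPG x z y m hm2 hzy hz hy hyz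
          hnz hny ⟨e, heC, hEexp e heE, hemoved⟩
        by_cases hβ : p ∣ β
        · exact Or.inr (Or.inl (Cfsg.Agent.Helper62.Blk.class_fam2 hp2 n hG x z y m hm2 hn hzy hz hy hyz hxp hxC'
            (fun m α hm h => Cfsg.Agent.Helper59.Blk.modEq_one_of_pow hp2 m α hm h) α β γ hzx hyx hα hγ hz0 hβ))
        · exact Or.inr (Or.inr (Or.inl (Cfsg.Agent.Helper78.Blk.class_fam3 hp2 n hG x z y m hm2 hn hzy hz hy hyz hxp hxC'
            (fun m α hm h => Cfsg.Agent.Helper59.Blk.modEq_one_of_pow hp2 m α hm h)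
            (fun x z y z0 α γ h1 h2 h3 h4 h5 h6 h7 h8 k => Cfsg.Agent.Helper33.Blk.conj_pow_rec x z y z0 α γ p h1 h2 h3 h4 h5 h6 h7 h8 k)
            α β γ hzx hyx hα hγ hz0 hβ)))
  · -- case alpha
    push Not at hβ
    have hall : ∀ g : G, g ^ p = 1 → g ∈ E := by
      intro g hg
      by_contra hgE
      have hgC : g ∈ centralizer (E : Set G) := by
        by_contra hgC
        exact hβ g hgC hg
      exact hgE (hCE g hgC hg)
    by_cases h3 : 3 < p
    · left
      refine Cfsg.Agent.S0639.result h3 hPG ?_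
      have hle : Cfsg.omegaOne p (⊤ : Subgroup G) ≤ E := by
        unfold Cfsg.omegaOne
        rw [closure_le]
        rintro g ⟨-, hg⟩
        exact hall g hg
      calc Nat.card (Cfsg.omegaOne p (⊤ : Subgroup G)) ≤ Nat.card E := Subgroup.card_le_of_le hle
        _ = p ^ 2 := hEcard
    have hp3 : p = 3 := by
      have := hp.out.two_le
      omega
    by_cases hCtop : centralizer (E : Set G) = ⊤
    · -- G itself is p-central
      left
      have hpc : PCentral p G := by
        intro c hc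
        have hcE := hall c hc
        rw [mem_center_iff]
        intro g
        have hg : g ∈ centralizer (E : Set G) := by rw [hCtop]; exact mem_top g
        rw [mem_centralizer_iff] at hg
        exact (hg c hcE).symm
      have h1 := hAG G hPG hpc E hall
      rw [hEcard] at h1
      exact hH2 G hPG h1
    · obtain ⟨b, hb⟩ : ∃ b : G, b ∉ centralizer (E : Set G) := by
        by_contra hcon
        push Not at hcon
        exact hCtop (eq_top_iff.2 fun g _ => hcon g)
      rcases Cfsg.Agent.Helper79.Blk.alpha_agemo hp2 hPG E hEcard hEexp hCE hAG hH2 hIDX b hb with hmc | hbp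
      · exact Or.inl hmc
      obtain ⟨u, huC, hup, hue⟩ := Cfsg.Agent.Helper70.Blk.alpha_root hp2 hPG E hEcard hEexp hCE hAG hH2 hR b hbp
      have hACTb : TransvAct E b := Cfsg.Agent.Helper73.Blk.transvAct hPG E hEcard hEexp b
      have hb1p : (b * u⁻¹) ^ p ∈ E := Cfsg.Agent.Helper87.Blk.alpha_descent hp2 E hEexp b u hACTb
        (fun b v e d => Cfsg.Agent.Helper10.Blk.mul_pow_twisted b v e d) huC hup hue
      have hb1 : b * u⁻¹ ∉ centralizer (E : Set G) := by
        intro h
        apply hb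
        have := mul_mem h huC
        rwa [inv_mul_cancel_right] at this
      have hACTb1 : TransvAct E (b * u⁻¹) := Cfsg.Agent.Helper73.Blk.transvAct hPG E hEcard hEexp (b * u⁻¹)
      have hcent := Cfsg.Agent.Helper68.Blk.alpha_cent hPG E hEcard hEexp hall (b * u⁻¹) hACTb1 hb1 hb1p
      have hcl := Cfsg.Agent.Helper68.Blk.maxclass_of_outside n hG E hEcard hEexp (b * u⁻¹) hb1 hb1p hcent
      exact Or.inr (Or.inr (Or.inr (alt4_of_class n hG hn2 hp3 hcl)))

end Cfsg.Agent.Helper77.Blk
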